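import Groth.Agent.REqLib.P1Line
import Groth.Agent.NormalSch.CurveVal
import Mathlib.FieldTheory.RatFunc.Luroth

/-!
# The projective line as a normal curve with rational function field
-/

set_option autoImplicit false
set_option backward.isDefEq.respectTransparency false
set_option linter.style.haveILetI false
set_option maxHeartbeats 1000000

universe u

open CategoryTheory AlgebraicGeometry MvPolynomial HomogeneousLocalization TopologicalSpace

noncomputable section

namespace Groth.Agent.RatCurveLib

variable {K : Type u} [Field K]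

/-- The structure maps to local rings are natural. -/
theorem stalkMap_natural {X Y : Scheme.{u}} [X.Over (Spec (CommRingCat.of K))] [Y.Over (Spec (CommRingCat.of K))]
    (g : Y ⟶ X) (hg : g ≫ (X ↘ Spec (CommRingCat.of K)) = Y ↘ Spec (CommRingCat.of K)) (y : Y) (r : K) :
    (g.stalkMap y).hom (Curv2.stalkMap K X (g y) r) = Curv2.stalkMap K Y y r := by
  have h : CommRingCat.ofHom (Curv2.stalkMap K X (g y)) ≫ g.stalkMap y = CommRingCat.ofHom (Curv2.stalkMap K Y y) := by
    apply Spec.map_injective
    rw [Spec.map_comp, ← NormalSch.fromSpecStalk_over, ← Category.assoc, Scheme.SpecMap_stalkMap_fromSpecStalk,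
      Category.assoc, hg, NormalSch.fromSpecStalk_over]
  exact congrArg (fun φ => φ.hom r) h

theorem stalkSpecializes_stalkMap {X : Scheme.{u}} [X.Over (Spec (CommRingCat.of K))] {x y : X} (h : x ⤳ y) (r : K) :
    (X.presheaf.stalkSpecializes h).hom (Curv2.stalkMap K X y r) = Curv2.stalkMap K X x r :=
  congr($(X.presheaf.germ_stalkSpecializes (U := ⊤) trivial h) (Coh.toGlobal (X ↘ Spec (CommRingCat.of K)) r))

variable (K)

/-- A chart ring of the projective line is a polynomial ring. -/
theorem exists_chartEquiv (c : Fin 2) : Nonempty (Polynomial K ≃ₐ[K] ProjMap.AwayX K 1 c) := by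
  let A := ProjMap.AwayX K 1 c
  obtain ⟨d, hdc, hd⟩ : ∃ d : Fin 2, d ≠ c ∧ ∀ i : Fin 2, i = c ∨ i = d := by
    fin_cases c
    · exact ⟨1, by simp, fun i => by fin_cases i <;> simp⟩
    · exact ⟨0, by simp, fun i => by fin_cases i <;> simp⟩
  let e : Fin 2 → A := ProjMap.coords (R := K) c (RingHom.id A)
  let ψ : Polynomial K →ₐ[K] A := Polynomial.aeval (e d)
  let v : Fin 2 → Polynomial K := fun i => if i = c then 1 else Polynomial.X
  have hu : IsUnit (aeval v (X c : MvPolynomial (Fin 2) K)) := by simp [v]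
  let φ : A →ₐ[K] Polynomial K :=
    { ProjMap.evalAway (R := K) v (X c) hu with commutes' := fun r => ProjMap.evalAway_fromZero v (X c) hu r }
  have hφd : φ (e d) = Polynomial.X := by
    have h := ProjMap.evalAway_mk (R := K) (v := v) (ProjMap.X_mem c) hu 1 (X d)
      (by simpa using ProjMap.X_mem (R := K) d)
    simp only [aeval_X, pow_one] at h
    rw [show v c = 1 from if_pos rfl, mul_one, show v d = Polynomial.X from if_neg hdc] at h
    exact h
  refine ⟨AlgEquiv.ofBijective ψ ⟨fun p q hpq => ?_, fun x => ?_⟩⟩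
  · have h : φ.comp ψ = AlgHom.id K _ := Polynomial.algHom_ext (by simp [ψ, hφd])
    have := congrArg φ hpq
    rwa [← AlgHom.comp_apply, ← AlgHom.comp_apply, h] at this
  · have hψv : ∀ i, ψ (v i) = e i := fun i => by
      by_cases hi : i = c
      · subst hi; simp [v, e, ψ]
      · obtain rfl := (hd i).resolve_left hi
        simp [v, ψ, hi]
    obtain ⟨k, p, hp, rfl⟩ := Away.mk_surjective (𝒜 := CohB1.polyGrading 1 K) (ProjMap.X_mem c) x
    refine ⟨aeval v p, ?_⟩
    have hφ : ProjMap.IsAlg (R := K) c (RingHom.id A) := fun r => rfl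
    have h := ProjMap.evalAway_mk (R := K) (v := e) (ProjMap.X_mem c)
      (show IsUnit (aeval e (X c : MvPolynomial (Fin 2) K)) by simp [e]) k p hp
    rw [← ProjMap.eq_evalAway_coords c (RingHom.id A) hφ] at h
    simp only [RingHom.id_apply, aeval_X, e, ProjMap.coords_self, one_pow, mul_one] at h
    rw [← AlgHom.comp_apply, comp_aeval]
    exact (DFunLike.congr_fun (congrArg MvPolynomial.aeval (funext hψv)) p).trans h.symm

/-- The local rings of the projective line at closed points are discrete valuation rings, and it is normal. -/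
theorem curve_facts :
    (∀ x : CohB1.ProjSpace 1 K, IsClosed ({x} : Set (CohB1.ProjSpace 1 K)) →
      ringKrullDim ((CohB1.ProjSpace 1 K).presheaf.stalk x) = 1) ∧ Pi1.IsNormalScheme (CohB1.ProjSpace 1 K) := by
  have hst : ∀ x : CohB1.ProjSpace 1 K, ∃ (c : Fin 2) (y : Spec (CommRingCat.of (ProjMap.AwayX K 1 c))),
      ProjMap.chart c y = x ∧ Nonempty ((CohB1.ProjSpace 1 K).presheaf.stalk x ≃+* Localization.AtPrime y.asIdeal) := by
    intro x
    obtain ⟨c, y, rfl⟩ := ProjMap.exists_chart K x
    exact ⟨c, y, rfl, ⟨(asIso ((ProjMap.chart (R := K) c).stalkMap y)).commRingCatIsoToRingEquiv.trans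
      (StructureSheaf.stalkIso (CommRingCat.of (ProjMap.AwayX K 1 c)) y).symm.toRingEquiv⟩⟩
  refine ⟨fun x hx => ?_, fun x => ?_⟩
  · obtain ⟨c, y, rfl, ⟨ε⟩⟩ := hst x
    obtain ⟨hdom, hpid⟩ := REqLib.isPID_away K c
    haveI := hdom
    haveI := hpid
    obtain ⟨e⟩ := exists_chartEquiv K c
    have hy : IsClosed ({y} : Set (Spec (CommRingCat.of (ProjMap.AwayX K 1 c)))) := by
      have := hx.preimage (ProjMap.chart (R := K) c).continuous
      rwa [← Set.image_singleton, Set.preimage_image_eq _ (ProjMap.chart (R := K) c).isOpenEmbedding.injective] at this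
    haveI : y.asIdeal.IsMaximal := (PrimeSpectrum.isClosed_singleton_iff_isMaximal y).1 hy
    have hy0 : y.asIdeal ≠ ⊥ := fun h => Polynomial.not_isField K
      (MulEquiv.isField (Ring.isField_iff_maximal_bot.2 (h ▸ ‹y.asIdeal.IsMaximal›)) e.toMulEquiv)
    haveI : IsDiscreteValuationRing (Localization.AtPrime y.asIdeal) :=
      IsLocalization.AtPrime.isDiscreteValuationRing_of_dedekind_domain (ProjMap.AwayX K 1 c) hy0 _
    rw [ringKrullDim_eq_of_ringEquiv ε, IsDiscreteValuationRing.ringKrullDim_eq_one]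
  · obtain ⟨c, y, rfl, ⟨ε⟩⟩ := hst x
    obtain ⟨hdom, hpid⟩ := REqLib.isPID_away K c
    haveI := hdom
    haveI := hpid
    haveI : IsDomain (Localization.AtPrime y.asIdeal) := inferInstance
    haveI : IsIntegrallyClosed (Localization.AtPrime y.asIdeal) :=
      isIntegrallyClosed_of_isLocalization _ y.asIdeal.primeCompl y.asIdeal.primeCompl_le_nonZeroDivisors
    exact ⟨ε.toMulEquiv.isDomain _, IsIntegrallyClosed.of_equiv ε.symm⟩

attribute [local instance] Curv2.stalkAlgebra

/-- The function field of the projective line is the field of rational functions. -/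
theorem exists_functionField_equiv [IsIntegral (CohB1.ProjSpace 1 K)] :
    ∃ θ : (CohB1.ProjSpace 1 K).functionField ≃+* RatFunc K,
      ∀ r : K, θ (Curv2.stalkMap K (CohB1.ProjSpace 1 K) (genericPoint (CohB1.ProjSpace 1 K)) r) = algebraMap K (RatFunc K) r := by
  obtain ⟨e⟩ := exists_chartEquiv K 0
  obtain ⟨hdom, -⟩ := REqLib.isPID_away K (0 : Fin 2)
  haveI := hdom
  let R : CommRingCat.{u} := CommRingCat.of (ProjMap.AwayX K 1 0)
  haveI : IsDomain R := hdom
  let W := Spec R
  let g : W ⟶ CohB1.ProjSpace 1 K := ProjMap.chart 0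
  letI : W.Over (Spec (CommRingCat.of K)) := ⟨Spec.map (CommRingCat.ofHom (algebraMap K (ProjMap.AwayX K 1 0)))⟩
  have hg : g ≫ (CohB1.ProjSpace 1 K ↘ Spec (CommRingCat.of K)) = W ↘ Spec (CommRingCat.of K) := ProjMap.chart_toSpec K 0
  have hgen : g (genericPoint W) = genericPoint (CohB1.ProjSpace 1 K) := genericPoint_eq_of_isOpenImmersion g
  letI : Algebra R W.functionField := (StructureSheaf.toStalk R (genericPoint W)).hom.toAlgebra
  haveI : IsFractionRing R W.functionField := AlgebraicGeometry.functionField_isFractionRing_of_affine R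
  let θ₁ : (CohB1.ProjSpace 1 K).functionField ≃+* W.functionField :=
    ((CohB1.ProjSpace 1 K).presheaf.stalkCongr (Inseparable.of_eq hgen.symm) ≪≫
      asIso (g.stalkMap (genericPoint W))).commRingCatIsoToRingEquiv
  let θ₂ : W.functionField ≃+* RatFunc K :=
    IsFractionRing.ringEquivOfRingEquiv (A := R) (B := Polynomial K) e.symm.toRingEquiv
  refine ⟨θ₁.trans θ₂, fun r => ?_⟩
  have h1 : θ₁ (Curv2.stalkMap K (CohB1.ProjSpace 1 K) (genericPoint (CohB1.ProjSpace 1 K)) r) =
      Curv2.stalkMap K W (genericPoint W) r := by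
    show (g.stalkMap _).hom (((CohB1.ProjSpace 1 K).presheaf.stalkSpecializes (Inseparable.of_eq hgen.symm).ge).hom _) = _
    rw [stalkSpecializes_stalkMap, stalkMap_natural g hg]
  have h2 : Curv2.stalkMap K W (genericPoint W) r = algebraMap R W.functionField (algebraMap K (ProjMap.AwayX K 1 0) r) := by
    have h : CommRingCat.ofHom (Curv2.stalkMap K W (genericPoint W)) =
        CommRingCat.ofHom (algebraMap K (ProjMap.AwayX K 1 0)) ≫ StructureSheaf.toStalk R (genericPoint W) := by
      apply Spec.map_injective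
      rw [Spec.map_comp, ← NormalSch.fromSpecStalk_over, Spec.fromSpecStalk_eq]
      rfl
    exact congrArg (fun φ => φ.hom r) h
  rw [RingEquiv.trans_apply, h1, h2]
  show θ₂ _ = _
  rw [IsFractionRing.ringEquivOfRingEquiv_algebraMap]
  show algebraMap (Polynomial K) (RatFunc K) (e.symm (algebraMap K (ProjMap.AwayX K 1 0) r)) = _
  rw [AlgEquiv.commutes, ← IsScalarTower.algebraMap_apply]

end Groth.Agent.RatCurveLib
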